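import Groth.Agent.S5391
import Groth.Agent.FlatLocalDesc.Affine
import Groth.Agent.AbsApprox.Chevalley
import Groth.Agent.GITss.ClosedAct
import Groth.Agent.EqInt.StabGrp
import Groth.Agent.LocalDimBC.Scheme

/-!
# Geometric quotients by proper actions of affine groups are affine morphisms
-/

set_option autoImplicit false
set_option backward.isDefEq.respectTransparency false
set_option linter.style.haveILetI false

universe u

open CategoryTheory CategoryTheory.Limits MonoidalCategory CartesianMonoidalCategory MonObj GrpObj AlgebraicGeometry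
open TopologicalSpace Topology

noncomputable section

namespace Groth.Agent.GeomQuotAff

theorem localDim_homeomorph {A A' : Type u} [TopologicalSpace A] [TopologicalSpace A'] (e : A ≃ₜ A') (x : A) :
    FlatMor.localDim A' (e x) = FlatMor.localDim A x := by
  refine le_antisymm (le_iInf fun U => ?_) (le_iInf fun U => ?_)
  · let U' : Opens A' := ⟨e.symm ⁻¹' U.1, U.1.2.preimage e.symm.continuous⟩
    refine (iInf_le _ (⟨U', by simpa [U'] using U.2⟩ : {U : Opens A' // e x ∈ U})).trans ?_
    refine (IsHomeomorph.topologicalKrullDim_eq _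
      (Homeomorph.subtype (p := fun z => z ∈ (U' : Set A')) (q := fun z => z ∈ (U.1 : Set A)) e.symm
        fun z => Iff.rfl).isHomeomorph).le
  · let U' : Opens A := ⟨e ⁻¹' U.1, U.1.2.preimage e.continuous⟩
    refine (iInf_le _ (⟨U', by simpa [U'] using U.2⟩ : {U : Opens A // x ∈ U})).trans ?_
    refine (IsHomeomorph.topologicalKrullDim_eq _
      (Homeomorph.subtype (p := fun z => z ∈ (U' : Set A)) (q := fun z => z ∈ (U.1 : Set A')) e
        fun z => Iff.rfl).isHomeomorph).le

/-- A nonempty scheme of finite type over a field has a closed point on a single component of that dimension. -/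
theorem exists_closed_point_component {K : Type u} [Field K] {F : Scheme.{u}} (q : F ⟶ Spec (CommRingCat.of K))
    [LocallyOfFiniteType q] [CompactSpace F] [Nonempty F] :
    ∃ (x : F) (Z : Set F) (z : F), Z ∈ irreducibleComponents F ∧ x ∈ Z ∧ Z = closure {z} ∧
      IsClosed ({x} : Set F) ∧ FlatMor.localDim F x = topologicalKrullDim Z := by
  haveI : IsLocallyNoetherian F := LocallyOfFiniteType.isLocallyNoetherian q
  haveI : AlgebraicGeometry.IsNoetherian F := {}
  haveI : JacobsonSpace F := LocallyOfFiniteType.jacobsonSpace q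
  obtain ⟨p⟩ : Nonempty F := inferInstance
  let Z := irreducibleComponent p
  have hZ : Z ∈ irreducibleComponents F := irreducibleComponent_mem_irreducibleComponents p
  obtain ⟨z, hz⟩ := QuasiSober.sober (isIrreducible_irreducibleComponent (x := p)) isClosed_irreducibleComponent
  let O : Opens F := ⟨(⋃ C ∈ irreducibleComponents F \ {Z}, C)ᶜ,
    ((NoetherianSpace.finite_irreducibleComponents.subset Set.sdiff_subset).isClosed_biUnion
      fun C hC => isClosed_of_mem_irreducibleComponents C hC.1).isOpen_compl⟩
  have hOZ : (O : Set F) ⊆ Z := fun w hw => by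
    by_contra hn
    exact hw (Set.mem_biUnion (x := irreducibleComponent w)
      ⟨irreducibleComponent_mem_irreducibleComponents w, fun e => hn ((Set.mem_singleton_iff.1 e) ▸ mem_irreducibleComponent)⟩
      mem_irreducibleComponent)
  have hzO : z ∈ O := by
    intro hmem
    obtain ⟨C, ⟨hC, hne⟩, hzC⟩ := Set.mem_iUnion₂.1 hmem
    have hsub : Z ⊆ C := by
      show irreducibleComponent p ⊆ C
      rw [← hz.def]
      exact closure_minimal (Set.singleton_subset_iff.2 hzC) (isClosed_of_mem_irreducibleComponents C hC)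
    exact hne (Set.Subset.antisymm (hZ.2 hC.1 hsub) hsub)
  obtain ⟨x, hxO, hxc⟩ := nonempty_inter_closedPoints (Z := (O : Set F)) ⟨z, hzO⟩ O.2.isLocallyClosed
  have hmax : Unibranch.IsMaxPt z := by
    intro w hw
    have hsub : Z ⊆ closure {w} := by
      show irreducibleComponent p ⊆ _
      rw [← hz.def]
      exact closure_minimal (Set.singleton_subset_iff.2 hw.mem_closure) isClosed_closure
    have hwC : w ∈ Z := hZ.2 isIrreducible_singleton.closure hsub (subset_closure rfl)
    exact (Specializes.antisymm hw (hz.specializes hwC)).eq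
  refine ⟨x, Z, z, hZ, hOZ hxO, hz.def.symm, hxc, le_antisymm ?_ ?_⟩
  · exact (iInf_le _ (⟨O, hxO⟩ : {U : Opens F // x ∈ U})).trans
      (IsInducing.topologicalKrullDim_le (f := Set.inclusion hOZ) (Topology.IsEmbedding.inclusion hOZ).isInducing)
  · rw [show Z = closure ({z} : Set F) from hz.def.symm, LocalDimBC.topologicalKrullDim_closure_eq q z hmax]
    refine le_iInf fun U => ?_
    exact iInf_le _ (⟨U.1, (hz.specializes (hOZ hxO)).mem_open U.1.2 U.2⟩ : {U : Opens F // z ∈ U})

variable {k : Type u} [Field k] {G X Y : Over (Spec (CommRingCat.of k))} [GrpObj G] {a : AlgGrp.Action G X}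
  {φ : X ⟶ Y}

/-- A geometric quotient is universally open. -/
theorem universallyOpen_of_isGeomQuot [LocallyOfFiniteType G.hom] (h : GIT.IsGeomQuot a φ) :
    UniversallyOpen φ.left := by
  haveI : UniversallyOpen G.hom := inferInstance
  refine ⟨?_⟩
  intro X₁ Y₁ i₁ i₂ f' hsq
  have hq : IsQuotientMap f' := h.subm _ _ _ hsq
  have hsq := hsq.flip
  let Yo : Over (Spec (CommRingCat.of k)) := Over.mk (i₂ ≫ Y.hom)
  let Xo : Over (Spec (CommRingCat.of k)) := Over.mk (i₁ ≫ X.hom)
  let g : Yo ⟶ Y := Over.homMk i₂
  let pr : Xo ⟶ X := Over.homMk i₁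
  let φ' : Xo ⟶ Yo := Over.homMk f' (by
    show f' ≫ i₂ ≫ Y.hom = i₁ ≫ X.hom
    rw [← reassoc_of% hsq.w, Over.w φ])
  have sqO : IsPullback pr φ' φ g :=
    IsPullback.of_map (Over.forget _) (Over.OverMorphism.ext hsq.w) hsq
  let e := (IsPullback.of_hasPullback φ g).isoIsPullback _ _ sqO
  let a₀ := EqInt.baseChange a φ h.inv g
  have he₁ : e.inv ≫ pullback.fst φ g = pr :=
    (IsPullback.of_hasPullback φ g).isoIsPullback_inv_fst _ _ sqO
  have he₂ : e.inv ≫ pullback.snd φ g = φ' :=
    (IsPullback.of_hasPullback φ g).isoIsPullback_inv_snd _ _ sqO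
  let act' : G ⊗ Xo ⟶ Xo := (G ◁ e.inv) ≫ a₀.act ≫ e.hom
  have hpr : act' ≫ pr = (G ◁ pr) ≫ a.act := by
    simp only [act', Category.assoc]
    rw [← he₁, Iso.hom_inv_id_assoc, EqInt.baseChange_fst, ← MonoidalCategory.whiskerLeft_comp_assoc]
  have hφ' : act' ≫ φ' = snd G Xo ≫ φ' := by
    simp only [act', Category.assoc]
    rw [← he₂, Iso.hom_inv_id_assoc, EqInt.baseChange_invariant, ← Category.assoc, whiskerLeft_snd,
      Category.assoc]
  obtain ⟨ho₁, ho₂⟩ := GITss.isOpenMap_act a₀
  have hopen₂ : IsOpenMap (snd G Xo).left := (pullback.snd G.hom Xo.hom).isOpenMap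
  have hopen₁ : IsOpenMap act'.left := by
    haveI : IsIso (G ◁ e.inv).left := inferInstanceAs (IsIso ((Over.forget _).map (G ◁ e.inv)))
    haveI : IsIso e.hom.left := inferInstanceAs (IsIso ((Over.forget _).map e.hom))
    show IsOpenMap (((G ◁ e.inv).left ≫ a₀.act.left ≫ e.hom.left) : (G ⊗ Xo).left ⟶ Xo.left)
    simp only [Scheme.Hom.comp_base, TopCat.coe_comp]
    exact (e.hom.left.isOpenEmbedding.isOpenMap.comp ho₂).comp (G ◁ e.inv).left.isOpenEmbedding.isOpenMap
  intro V hV
  refine hq.isOpen_preimage.1 ?_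
  have : f' ⁻¹' (f' '' V) = act'.left '' ((snd G Xo).left ⁻¹' V) := by
    ext p
    constructor
    · rintro ⟨v, hv, hvp⟩
      obtain ⟨w, hw₁, hw₂⟩ := Scheme.exists_preimage_of_isPullback (IsPullback.of_hasPullback f' f') p v hvp.symm
      let m : pullback f' f' ⟶ pullback φ.left φ.left :=
        pullback.lift (pullback.fst f' f' ≫ i₁) (pullback.snd f' f' ≫ i₁) (by
          rw [Category.assoc, Category.assoc, hsq.w, pullback.condition_assoc])
      obtain ⟨t, ht⟩ := h.orbit (m w)
      obtain ⟨τ, hτ₁, hτ₂⟩ := Scheme.exists_preimage_of_isPullback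
        (IsPullback.of_hasPullback (GIT.PsiY a φ h.inv) m) t w ht
      let q₁ := pullback.fst (GIT.PsiY a φ h.inv) m
      let q₂ := pullback.snd (GIT.PsiY a φ h.inv) m
      have hc : q₁ ≫ GIT.PsiY a φ h.inv = q₂ ≫ m := pullback.condition
      have sqG : IsPullback (G ◁ pr).left (snd G Xo).left (snd G X).left i₁ :=
        ((Blanchard.isPullback_whiskerLeft G pr).map (Over.forget _)).flip
      let L := sqG.lift q₁ (q₂ ≫ pullback.snd f' f') (by
        rw [← GITss.psiY_snd a h.inv, reassoc_of% hc, pullback.lift_snd, Category.assoc])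
      refine ⟨L τ, ?_, ?_⟩
      · show (snd G Xo).left (L τ) ∈ V
        rw [← Scheme.Hom.comp_apply, sqG.lift_snd]
        exact (congrArg (pullback.snd f' f') hτ₂).trans hw₂ ▸ hv
      · have hL : L ≫ act'.left = q₂ ≫ pullback.fst f' f' := by
          apply hsq.hom_ext
          · rw [Category.assoc, show act'.left ≫ i₁ = (G ◁ pr).left ≫ a.act.left from congr($(hpr).left),
              sqG.lift_fst_assoc, ← GITss.psiY_fst a h.inv, reassoc_of% hc, pullback.lift_fst, Category.assoc]
          · rw [Category.assoc, show act'.left ≫ f' = (snd G Xo).left ≫ f' from congr($(hφ').left),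
              sqG.lift_snd_assoc, Category.assoc, Category.assoc, pullback.condition]
        rw [← Scheme.Hom.comp_apply, hL]
        exact (congrArg (pullback.fst f' f') hτ₂).trans hw₁
    · rintro ⟨u, hu, rfl⟩
      refine ⟨_, hu, ?_⟩
      show f' ((snd G Xo).left u) = f' (act'.left u)
      exact congr(($(show act'.left ≫ f' = (snd G Xo).left ≫ f' from congr($(hφ').left))) u).symm
  rw [this]
  exact hopen₁ _ (hV.preimage (snd G Xo).left.continuous)

variable [IsAffine G.left] [LocallyOfFiniteType G.hom] [LocallyOfFiniteType X.hom] [QuasiCompact X.hom]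
  [LocallyOfFiniteType Y.hom]

/-- A geometric quotient by a proper action of an affine group is an affine morphism. -/
theorem isAffineHom_of_proper [QuasiSeparated Y.hom] [QuasiSeparated X.hom]
    (hp : IsProper (GIT.psi a (𝟙 X)).left) (h : GIT.IsGeomQuot a φ) : IsAffineHom φ.left := by
  haveI := universallyOpen_of_isGeomQuot h
  haveI : LocallyOfFiniteType (φ.left ≫ Y.hom) := by rw [Over.w φ]; infer_instance
  haveI : LocallyOfFiniteType φ.left := locallyOfFiniteType_of_comp φ.left Y.hom
  haveI : QuasiCompact (φ.left ≫ Y.hom) := by rw [Over.w φ]; infer_instance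
  haveI : QuasiCompact φ.left := QuasiCompact.of_comp φ.left Y.hom
  haveI : QuasiSeparated (φ.left ≫ Y.hom) := by rw [Over.w φ]; infer_instance
  haveI : QuasiSeparated φ.left := QuasiSeparated.of_comp φ.left Y.hom
  haveI : IsLocallyNoetherian Y.left := LocallyOfFiniteType.isLocallyNoetherian Y.hom
  haveI : LocallyOfFinitePresentation φ.left := ConsEngine.lfp_of_lft _
  -- the graph of the orbit relation is universally closed and surjective
  let Ψ := GIT.PsiY a φ h.inv
  haveI : Surjective Ψ := ⟨h.orbit⟩
  haveI : IsProper Ψ := by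
    let m : pullback φ.left φ.left ⟶ (X ⊗ X).left :=
      pullback.lift (pullback.fst φ.left φ.left) (pullback.snd φ.left φ.left) (by
        rw [← Over.w φ, pullback.condition_assoc])
    haveI : Mono m := ⟨fun p q e => pullback.hom_ext
      (by simpa [m] using congr($e ≫ pullback.fst X.hom X.hom))
      (by simpa [m] using congr($e ≫ pullback.snd X.hom X.hom))⟩
    have e : Ψ ≫ m = (GIT.psi a (𝟙 X)).left := by
      apply pullback.hom_ext
      · rw [Category.assoc, pullback.lift_fst, GITss.psiY_fst]
        exact congr($((show GIT.psi a (𝟙 X) ≫ fst X X = a.act by simp [GIT.psi]).symm).left)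
      · rw [Category.assoc, pullback.lift_snd, GITss.psiY_snd]
        exact congr($((show GIT.psi a (𝟙 X) ≫ snd X X = snd G X by simp [GIT.psi]).symm).left)
    haveI : IsProper (Ψ ≫ m) := e ▸ hp
    exact IsProper.of_comp Ψ m
  refine FlatLocalDesc.isAffineHom_of_flatLocally φ.left fun y => ?_
  let F := φ.left.fiber y
  obtain ⟨x₀, hx₀⟩ := h.surj y
  haveI : Nonempty F := ⟨(φ.left.fiberHomeo y).symm ⟨x₀, hx₀⟩⟩
  haveI : LocallyOfFiniteType (φ.left.fiberToSpecResidueField y) :=
    MorphismProperty.pullback_snd (P := @LocallyOfFiniteType) _ _ inferInstance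
  haveI : QuasiCompact (φ.left.fiberToSpecResidueField y) :=
    MorphismProperty.pullback_snd (P := @QuasiCompact) _ _ inferInstance
  haveI : CompactSpace F := QuasiCompact.compactSpace_of_compactSpace (φ.left.fiberToSpecResidueField y)
  obtain ⟨x, Z, z, hZ, hxZ, hZz, hxc, hdim⟩ := exists_closed_point_component (φ.left.fiberToSpecResidueField y)
  let e := φ.left.fiberHomeo y
  have hZ' : e '' Z ∈ irreducibleComponents ↥(φ.left ⁻¹' {y}) := by
    refine ⟨hZ.1.image e e.continuous.continuousOn, fun C hC hle => ?_⟩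
    have : e ⁻¹' C ⊆ Z := hZ.2 (by
      rw [← e.image_symm]; exact hC.image e.symm e.symm.continuous.continuousOn)
      (fun w hw => hle ⟨w, hw, rfl⟩)
    exact fun w hw => ⟨e.symm w, this (by simpa using hw), e.apply_symm_apply w⟩
  obtain ⟨S', S'', _, w, π, hh, _, _, _, _, hw, s, hs, -, -⟩ :=
    Groth.Agent.S5391.result X.left Y.left φ.left y (e x).1 (e x).2
      (by
        rw [← Set.image_singleton, Set.preimage_image_eq _ Subtype.val_injective, ← Set.image_singleton (f := e)]
        exact e.isClosedMap _ hxc)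
      (e '' Z) hZ' ⟨_, ⟨x, hxZ, rfl⟩, rfl⟩ (e z).1
      ⟨⟨_, ⟨z, hZz ▸ subset_closure rfl, rfl⟩, rfl⟩, by
        rintro _ ⟨_, ⟨v, hv, rfl⟩, rfl⟩
        rw [hZz] at hv
        have := map_mem_closure (continuous_subtype_val.comp e.continuous) hv (t := {(e z).1})
          (fun w hw => by simp [Set.mem_singleton_iff.1 hw])
        exact this⟩
      (fun Y' g x' _ U hU => (pullback.snd φ.left g).isOpenMap.image_mem_nhds hU)
      (by
        show FlatMor.localDim _ (e x) = _
        rw [localDim_homeomorph e x, hdim]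
        exact IsHomeomorph.topologicalKrullDim_eq _ (e.image Z).isHomeomorph)
  refine ⟨S', w, inferInstance, ⟨π s, (hs ▸ Set.mem_singleton s : s ∈ (π ≫ w) ⁻¹' {y})⟩, ?_⟩
  haveI : IsAffine S'' := isAffine_of_isAffineHom π
  -- the orbit map of the quasi-section covers the base change
  let Sk : Over (Spec (CommRingCat.of k)) := Over.mk (hh ≫ X.hom)
  let hO : Sk ⟶ X := Over.homMk hh
  let P := pullback φ.left (hh ≫ φ.left)
  let j : P ⟶ pullback φ.left φ.left :=
    pullback.lift (pullback.fst _ _) (pullback.snd _ _ ≫ hh) (by rw [Category.assoc, pullback.condition])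
  let M₁ : (G ⊗ Sk).left ⟶ P :=
    pullback.lift ((G ◁ hO).left ≫ a.act.left) (snd G Sk).left (by
      rw [Category.assoc, show a.act.left ≫ φ.left = (snd G X).left ≫ φ.left from h.inv.left,
        ← Category.assoc, ← Over.comp_left, whiskerLeft_snd, Over.comp_left, Category.assoc]
      rfl)
  have sqj : IsPullback j (pullback.snd φ.left (hh ≫ φ.left)) (pullback.snd φ.left φ.left) hh :=
    IsPullback.of_right (by
      rw [pullback.lift_fst]
      exact IsPullback.of_hasPullback φ.left (hh ≫ φ.left)) (pullback.lift_snd _ _ _)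
      (IsPullback.of_hasPullback φ.left φ.left)
  have sqG : IsPullback (G ◁ hO).left (snd G Sk).left (snd G X).left hh :=
    ((Blanchard.isPullback_whiskerLeft G hO).map (Over.forget _)).flip
  have sqM : IsPullback (G ◁ hO).left M₁ Ψ j := by
    refine IsPullback.of_bot ?_ ?_ sqj
    · rw [show M₁ ≫ pullback.snd φ.left (hh ≫ φ.left) = (snd G Sk).left from pullback.lift_snd _ _ _,
        show Ψ ≫ pullback.snd φ.left φ.left = (snd G X).left from GITss.psiY_snd a h.inv]
      exact sqG
    · apply pullback.hom_ext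
      · rw [Category.assoc, Category.assoc, pullback.lift_fst, pullback.lift_fst, GITss.psiY_fst]
      · rw [Category.assoc, Category.assoc, pullback.lift_snd, GITss.psiY_snd,
          ← Category.assoc M₁, pullback.lift_snd, sqG.w]
  haveI : UniversallyClosed M₁ := MorphismProperty.of_isPullback sqM (inferInstanceAs (UniversallyClosed Ψ))
  haveI : Surjective M₁ := MorphismProperty.of_isPullback sqM (inferInstanceAs (Surjective Ψ))
  let c : P ⟶ pullback φ.left w :=
    pullback.lift (pullback.fst _ _) (pullback.snd _ _ ≫ π) (by rw [Category.assoc, ← hw, pullback.condition])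
  have sqc : IsPullback c (pullback.snd φ.left (hh ≫ φ.left)) (pullback.snd φ.left w) π :=
    IsPullback.of_right (by
      rw [pullback.lift_fst, ← hw]
      exact IsPullback.of_hasPullback φ.left (hh ≫ φ.left)) (pullback.lift_snd _ _ _)
      (IsPullback.of_hasPullback φ.left w)
  haveI : IsFinite c := MorphismProperty.of_isPullback sqc.flip ‹IsFinite π›
  haveI : Surjective c := MorphismProperty.of_isPullback sqc.flip ‹Surjective π›
  haveI : IsAffineHom (snd G Sk).left := by
    haveI : IsAffineHom G.hom := isAffineHom_of_isAffine _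
    exact MorphismProperty.pullback_snd (P := @IsAffineHom) G.hom Sk.hom ‹_›
  haveI : IsAffine Sk.left := ‹IsAffine S''›
  haveI : IsAffine (G ⊗ Sk).left := isAffine_of_isAffineHom (snd G Sk).left
  haveI : IsAffine (pullback φ.left w) := AbsApprox.isAffine_of_universallyClosed (M₁ ≫ c)
  exact isAffineHom_of_isAffine _

end Groth.Agent.GeomQuotAff
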